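import Cfsg.Agent.J4C.Cert
import Cfsg.Agent.CGT.Out

set_option autoImplicit false
set_option Elab.async false
set_option maxRecDepth 100000
set_option linter.all false

namespace Cfsg.Agent.J4C.V
open Cfsg.Agent.CGT

noncomputable def c8_l0 : Level := ⟨0, [[0], [2], [4], [6], [8], [10], [12], [14], [16], [18]], [1, 2, 3, 4, 5, 6, 8, 2, 7, 3, 9, 1, 7, 5, 6], 0x7ffffffffffffffffffffffffffffffffffffffffffffffffffffffffffffffffffffffffffffffffffffffffffffffffffffffffffffffffffffffffffffffffffffffffffffffffffffffffffffffffffffffffffffffffffffffffffffffffffffffffffffffffffffffffffffffffffffffffffffffffffffffffffffffffffffffffffffffffffffffffffffffffffffffffffffffffffffffffffffffffffffffffffffffffffffffffffffffffffffffffffffffffffffffffffffffffffffffffffffffffffffffffffffffffffffffffffffffffffffffffffffffffffffffffffffffffffffffffffffffffffffffffffffffffffffffffffffffffffffffffffffffffffffffffffffffffffffffffffffffffffffffffffffffffffffffffffffffffffffffffffffffffffffffffffffffffffffffffffffffffffffffffffffffffffffffffffffffffffffffffffffffffffffffffffffffffffffffffffffffffffffffffffffffffffffffffffffffffffffffffffffffffffffffffffffffffffffffffffffffffffffffffffffffffffffffffffffffffffffffffffffffffffffffffffffffffffffffffffffffffffffffffffffffffffffffffffffffffffffffffffffffffffffffffffffffffffff,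 3795⟩
noncomputable def c8_l1 : Level := ⟨34, [[19], [1]], [0, 1, 0, 0, 1, 0, 1, 0, 0, 1, 0, 1, 0, 1, 0, 1, 0, 1, 0, 1, 0, 1, 0, 1, 0, 0], 0x182441c800a212031050c04188c0908108020040418814e10021409020e010c0074002c828281241284402302184200c2919085092000010420001032218008cf822080050158409a1b0014906a0b3009488810001488900281208008026004d2ac423800104c5ad981a1644101404c1400290c240022d20501cd8000a080440128282800205b52004401200126181693209284808b00c250020a1441020030884048206006810100538008b80482803042e401c14768a40041001301012642a02ea22964328900182014bc04c08920080958488020100030428080290881a00029008100240928e488852945834248014200095a418982d4300020d100015a6005010181212c181c800d20e0012064a39223029451360361210028540065724061583650a020481a2000094a300250100604c12c140f0800a020806100e4b2539c8000c144084c81008000a11642004001c2640380400200c200e4cc32279c82001c0b28140988040200005084c84048b0003813100e051ca08568408580903618105c423b2fec02888150728214d04042c0490d860205c412ecdfd8051158591093175216040225823c982c8e12632d48584540112c11e0c078800daaac110c0789108daaac11baca17b8b9650b770064401910180c2141401e,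 1008⟩
noncomputable def c8_l2 : Level := ⟨327, [[8, 12, 15, 11, 6, 13], [16, 9, 5, 12, 19, 17, 0], [13, 4, 18, 17, 11, 6, 2], [10, 14, 17, 6, 14, 17, 13], [5, 9, 17, 9, 10, 4, 2]], [], 0x2004000000000000000000000000000000000000000000080000000000040000000000000001000000000000020001000000000000000000000000000000000200000000000000000000000000000000000000000000000400000000000000000000000000010000000000000000000000000000000000400000000000000000000000000000000000000000004000000000080000000000000000000000400000400000000000001000000000000800000000080800000000000000000200000000002004240000000000000040000000000000040000000000000000000000000400800000200000020000000000000000000000000002008002000000000000000000202000000000000000000000000000000000000000080000000000008040400000008000000000000000000000000000000000002000000000020000000000000000000000000000000000000000200000000000000000000000080008000000000000000000008010000000000001000000000000000000000000100040000000000000000000000808000200200000000000000000000001000000000000000400400008200220000000000000000000000002000000000000000000000000000000000040020000000000000,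 64⟩
noncomputable def c8_ls : List Level := [c8_l0, c8_l1, c8_l2]
noncomputable def c8_S : Srch := ⟨12, J4C.m_ts, (chainBase [] J4C.c_ls), [0, 6], [0, 6], [[4, 10, 3, 11, 5, 19, 14, 19]]⟩
noncomputable def c8_lk : List ℕ := [1, 35]
noncomputable def c8_tl : List Level := [c8_l1, c8_l2]
noncomputable def c8_R0 : ℕ := 0x80000000000000000000000000000000000000400000000000000000000000000000000a00000000000000080000000008000200000000008a0000801000000090200000008000000000000002000060000800000000000040004008a0000024020800001000c0000008100000100010020000000000000000081000000000000020200000004000000000000000000100000000000100000000000010008000000400000000020002002400400800100000008004000010000000000000404008000000000000003180800808000000003899010002440001415401010000200140000050000000000010080040000820000108001000001080410001002300400002004000000000000202841010080341400080208000000011000808c16800120004e00000188000a08000210000120140000030128048000808200800000000010800284000100000100028800402c840110000420044c04138564040c800a00000000808003020304408800001543880c40440e282284080a010288000240001800810021800400c483b0288945143ea081b498644220419cc54808281a3a3043400000050d048419d8090028819201850bf9bea0c34204051297571754145cd3506df5533a3a95b715101115814dd945cab9e80f8cf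
theorem c8_l0_ok : (ptsOK 12 [] && (wordsIn [0, 2, 4, 6, 8, 10, 12, 14, 16, 18] c8_l0.S && c8_l0.ok 12 J4C.m_ns J4C.m_ts [])) = true := by decide +kernel
theorem c8_l1_ok : (ptsOK 12 [0] && (wordsIn [0, 2, 4, 6, 8, 10, 12, 14, 16, 18] c8_l1.S && c8_l1.ok 12 J4C.m_ns J4C.m_ts [0])) = true := by decide +kernel
theorem c8_l2_ok : c8_l2.okT 12 J4C.m_ts [0, 2, 4, 6, 8, 10, 12, 14, 16, 18] [34, 0] (.cons [0] (.cons [2] (.cons [0] (.cons [4] .nil .nil) .nil) (.cons [4] (.cons [2] .nil (.cons [6] .nil (.cons [8] .nil .nil))) (.cons [6] (.cons [0] (.cons [4] .nil .nil) .nil) (.cons [8] (.cons [0] (.cons [4] .nil .nil) (.cons [2] (.cons [4] .nil .nil) (.cons [4] (.cons [6] .nil .nil) (.cons [6] .nil (.cons [8] (.cons [4] .nil .nil) .nil))))) (.cons [9] (.cons [0] (.cons [2] .nil (.cons [4] (.cons [2] .nil (.cons [6] .nil (.cons [8] .nil (.cons [9] .nil .nil)))) (.cons [6] .nil (.cons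 [8] .nil (.cons [9] .nil .nil))))) .nil) .nil))))) (.cons [2] (.cons [0] (.cons [4] .nil .nil) (.cons [4] .nil .nil)) (.cons [4] .nil (.cons [6] (.cons [0] (.cons [2] .nil (.cons [4] (.cons [2] .nil (.cons [6] .nil (.cons [8] .nil (.cons [9] .nil .nil)))) (.cons [6] .nil (.cons [8] .nil (.cons [9] .nil .nil))))) (.cons [4] (.cons [2] .nil (.cons [8] .nil (.cons [9] .nil .nil))) .nil)) (.cons [8] (.cons [0] (.cons [4] .nil .nil) (.cons [4] .nil .nil)) (.cons [9] (.cons [0] (.cons [4] .nil .nil) (.cons [2] .nil (.cons [4] .nil (.cons [6] .nil (.cons [9] .nil .nil))))) .nil)))))) = true := by decide +kernel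
theorem c8_aux : c8_S.auxB [0, 2, 4, 6, 8, 10, 12, 14, 16, 18] c8_ls [] (0 :: c8_lk) = true := by decide +kernel
theorem c8_cov : Nat.beq (Nat.land c8_l0.O (Srch.cover J4C.m_ns (invW c8_S.u') c8_R0 7)) c8_l0.O = true := by decide +kernel
theorem c8_r0 : c8_S.run (.cons [] (.cons [] (.cons [] (.leaf 2000) .nil) .nil) (.cons [2] .nil (.cons [3] .nil (.cons [4] .nil (.cons [5] (.cons [0, 0, 2, 1, 2, 0, 2] .nil .nil) (.cons [6] (.cons [0, 2, 1, 2, 0, 0, 2, 1, 2, 1, 2, 0, 2] .nil .nil) (.cons [9] (.cons [2, 1, 2, 0, 0, 2, 1] .nil .nil) (.cons [10] .nil (.cons [11] .nil (.cons [12] (.cons [0, 0, 2, 0, 2, 0, 2, 0, 0, 2, 1, 1, 2] .nil .nil) (.cons [13] .nil (.cons [14] .nil (.cons [15] .nil (.cons [16] .nil (.cons [17] .nil (.cons [0, 3] .nil (.cons [4, 3] (.cons [2, 1, 1, 2, 0, 2, 1, 2] .nil .nil) (.cons [5, 3] (.cons [1, 2, 0, 0, 2, 0, 0, 2, 0, 0, 2, 1, 2, 1] .nil .nil) (.cons [10,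 3] .nil (.cons [11, 3] (.cons [2, 0, 2, 1, 2, 0, 2, 0, 2, 0] .nil .nil) (.cons [12, 3] (.cons [2, 0, 2, 0, 0, 2, 0, 0, 2, 1, 2, 1, 1, 2] .nil .nil) (.cons [14, 3] .nil (.cons [15, 3] .nil (.cons [16, 3] (.cons [2, 0, 0, 2, 1] .nil .nil) (.cons [17, 3] (.cons [2, 1, 1, 2, 0, 2, 1, 1, 2, 0, 2, 0, 0] .nil .nil) (.cons [18, 3] (.cons [2, 1, 2, 1, 2, 1, 2, 1, 1, 2] (.cons [4, 0, 2] (.leaf 3) .nil) .nil) (.cons [19, 3] .nil (.cons [4, 2] (.cons [0, 2, 1, 2] .nil .nil) (.cons [5, 2] (.cons [1, 1, 2, 1, 2, 1, 2, 0, 2, 0, 2] .nil .nil) (.cons [9, 2] (.cons [1, 2, 0, 2, 1, 2, 1, 1, 2] .nil .nil) (.cons [12, 2] .nil (.cons [14, 2] (.cons [0, 2, 1, 1, 2, 1, 2, 0, 2, 1, 2, 1] .nil .nil) (.cons [16, 2] .nil (.cons [17, 2] .nil (.cons [18, 2] (.cons [0, 2, 1, 2, 0, 2, 1, 2, 0, 2, 0, 2, 1] .nil .nil) (.cons [19, 2] .nil (.cons [4, 17] .nil (.cons [5, 17] .nil (.cons [10, 17] .nil (.cons [11,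 17] (.cons [1, 2, 0, 0, 2, 0, 2, 1, 2, 1, 2, 0] .nil .nil) (.cons [12, 17] .nil (.cons [14, 17] (.cons [1, 1, 2, 0, 2, 0, 2, 0, 2, 0, 2, 1, 2, 1] .nil .nil) (.cons [15, 17] (.cons [2, 1, 2, 0, 2, 0, 0, 2, 1, 2, 1] .nil .nil) (.cons [18, 17] .nil (.cons [4, 8] .nil (.cons [5, 8] .nil (.cons [6, 8] (.cons [2, 0, 0, 2, 1, 2, 1, 1, 2] .nil .nil) (.cons [11, 8] .nil (.cons [14, 8] (.cons [2, 0, 2, 0, 0, 2, 1] .nil .nil) (.cons [15, 8] (.cons [0, 2, 0, 0, 2, 0, 0, 2, 1, 2, 1, 1, 2] .nil .nil) (.cons [17, 8] .nil (.cons [2, 11] .nil (.cons [6, 11] .nil (.cons [14, 11] (.cons [0, 2, 1, 2, 0, 0, 2, 1, 2, 1, 2, 0, 2] .nil .nil) (.cons [15, 11] (.cons [2, 0, 2, 0, 2, 1, 2, 1] .nil .nil) (.cons [16, 11] .nil (.cons [9, 5] .nil (.cons [12, 5] .nil (.cons [14, 5] .nil (.cons [15, 5] .nil (.cons [16, 5] .nil (.cons [17, 5] .nil (.cons [18, 5] .nil (.cons [19, 5] .nil (.cons [10, 4] .nil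 (.cons [11, 4] .nil (.cons [14, 4] .nil (.cons [15, 4] .nil (.cons [16, 4] (.cons [0, 0, 2, 0, 2, 1, 2, 0, 2, 0] .nil .nil) (.cons [17, 4] .nil (.cons [0, 9] .nil (.cons [4, 9] .nil (.cons [5, 9] (.cons [2, 0, 2, 1, 2, 0, 2, 1, 2, 0, 2, 0, 2, 1] .nil .nil) (.cons [6, 9] .nil (.cons [11, 9] .nil (.cons [14, 9] (.cons [0, 2, 0, 2, 1, 2, 1, 2] .nil .nil) (.cons [4, 7] .nil (.cons [5, 7] (.cons [0, 2, 0, 2, 1, 2, 0, 0, 2, 1] .nil .nil) (.cons [12, 7] .nil (.cons [13, 7] .nil (.cons [16, 7] (.cons [1, 1, 2, 0, 2, 1, 2, 1] .nil .nil) (.cons [18, 7] (.cons [0, 2, 1, 2, 1, 2, 0, 2, 1, 2, 1, 1, 2] .nil .nil) (.cons [0, 12] .nil (.cons [5, 12] .nil (.cons [6, 12] .nil (.cons [9, 12] (.cons [1, 2, 0, 2, 1, 2, 1, 2] .nil .nil) (.cons [11, 12] .nil (.cons [14, 12] .nil (.cons [15, 12] (.cons [0, 2, 1, 2, 1, 2, 0, 2, 0, 0] .nil .nil) (.cons [3, 6] .nil (.cons [5, 6] .nil (.cons [9, 6] .nil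 (.cons [11, 6] .nil (.cons [12, 6] .nil (.cons [13, 6] .nil (.cons [14, 6] .nil (.cons [16, 6] .nil (.cons [17, 6] .nil (.cons [18, 6] .nil (.cons [19, 6] (.cons [0, 0, 2, 1, 2, 0, 2, 0, 0, 2, 1] .nil .nil) (.cons [12, 10] .nil (.cons [14, 10] .nil (.cons [15, 10] .nil (.cons [16, 10] .nil (.cons [17, 10] .nil (.cons [18, 10] .nil (.cons [19, 10] .nil (.cons [0, 13] .nil (.cons [5, 13] .nil (.cons [9, 13] .nil (.cons [10, 13] .nil (.cons [14, 13] .nil (.cons [15, 13] .nil (.cons [18, 13] .nil (.cons [19, 13] .nil (.cons [0, 16] (.cons [2, 0, 0, 2, 1, 2, 1, 1, 2] .nil .nil) (.cons [2, 16] (.cons [2, 1, 2, 0, 2, 0, 2, 0, 2, 1, 2, 1, 2] .nil .nil) (.cons [4, 16] .nil (.cons [5, 16] .nil (.cons [6, 16] (.cons [2, 0, 2, 0, 2, 1, 1, 2, 0, 2, 1, 2] .nil .nil) (.cons [10, 16] .nil (.cons [11, 16] .nil (.cons [19, 16] .nil (.cons [2, 15] .nil (.cons [3, 15] (.cons [2, 1, 2, 0, 2, 0,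 2, 0, 2, 1, 1, 2] .nil .nil) (.cons [6, 15] .nil (.cons [9, 15] .nil (.cons [10, 15] .nil (.cons [11, 15] (.cons [1, 1, 2, 0, 2, 0, 0, 2, 0, 2] .nil .nil) (.cons [12, 15] .nil (.cons [16, 15] (.cons [0, 0, 2, 1, 2, 1, 2, 0, 0] .nil .nil) (.cons [17, 15] .nil (.cons [19, 15] .nil (.cons [12, 14] .nil (.cons [13, 14] .nil (.cons [16, 14] .nil (.cons [4, 0, 3] .nil (.cons [17, 0, 3] .nil (.cons [19, 0, 3] (.cons [0, 2, 1, 2, 0, 2, 1, 2, 1, 2] .nil .nil) (.cons [10, 0, 2] .nil (.cons [12, 0, 2] .nil (.cons [16, 0, 2] (.cons [0, 2, 1, 2, 1, 1, 2, 0, 2, 0, 2, 0, 2] .nil .nil) (.cons [17, 0, 2] .nil (.cons [18, 0, 2] .nil (.cons [15, 16, 3] .nil (.cons [6, 12, 17] (.cons [0, 2, 1, 2, 0, 2, 0, 0, 2, 0, 0] .nil .nil) (.cons [17, 12, 17] .nil (.cons [4, 10, 7] .nil (.cons [12, 10, 7] .nil (.cons [17, 10, 7] (.cons [2, 1, 2, 0, 2, 1, 2, 1, 2, 0, 0, 2, 1] .nil .nil) (.cons [6, 6, 17]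 (.cons [0, 0, 2, 0, 0] .nil .nil) (.cons [9, 6, 17] .nil (.cons [16, 6, 17] .nil (.cons [17, 6, 17] .nil (.cons [19, 6, 17] (.cons [1, 1, 2, 1, 2, 1, 2, 0] .nil .nil) (.cons [13, 2, 17] .nil (.cons [14, 2, 17] .nil (.cons [15, 2, 17] (.cons [2, 0, 2, 0, 0, 2, 0, 2, 0, 2, 0, 0] .nil .nil) (.cons [17, 2, 17] .nil (.cons [18, 2, 17] .nil (.cons [14, 12, 2] (.cons [2, 1, 2, 1, 2, 0, 2, 0, 0, 2, 1, 2, 1] .nil .nil) (.cons [15, 12, 2] .nil (.cons [17, 12, 2] .nil (.cons [4, 10, 3] .nil (.cons [6, 10, 3] .nil (.cons [6, 4, 2] .nil (.cons [12, 4, 2] .nil (.cons [13, 4, 2] .nil (.cons [17, 4, 2] .nil (.cons [18, 4, 2] .nil (.cons [4, 3, 17] .nil (.cons [5, 3, 17] .nil (.cons [14, 3, 17] (.cons [1, 1, 2, 0, 0, 2, 0, 2, 1, 2, 1, 2, 0] .nil .nil) (.cons [5, 0, 5] .nil (.cons [6, 0, 5] .nil (.cons [10, 0, 5] .nil (.cons [12, 0, 5] .nil (.cons [17, 18, 16] .nil (.cons [4, 3, 8] .nil (.cons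 [12, 3, 8] (.cons [1, 2, 1, 1, 2, 1, 2, 1, 1, 2, 0, 2, 1, 2] .nil .nil) (.cons [10, 13, 2] .nil (.cons [14, 13, 2] .nil (.cons [12, 9, 2] .nil (.cons [13, 9, 2] .nil (.cons [15, 9, 2] .nil (.cons [16, 9, 2] .nil (.cons [15, 13, 3] (.cons [1, 2, 0, 2, 0, 2, 1, 2, 0, 2] (.cons [2] (.leaf 3) .nil) .nil) (.cons [11, 5, 3] .nil (.cons [12, 5, 3] (.cons [2, 0, 2, 0, 2, 1, 2, 1] .nil .nil) (.cons [19, 5, 3] (.cons [0, 0, 2, 0, 2, 0, 2, 0, 0] .nil .nil) (.cons [5, 2, 11] (.cons [2, 0, 2, 1, 1, 2, 1, 2, 0, 0] .nil .nil) (.cons [14, 2, 11] .nil (.cons [5, 12, 3] .nil (.cons [10, 12, 3] .nil (.cons [5, 8, 2] .nil (.cons [6, 8, 2] (.cons [1, 2, 0, 2, 1, 2, 1, 2, 1, 2, 0, 0] .nil .nil) (.cons [16, 8, 2] .nil (.cons [4, 8, 3] (.cons [2, 0, 2, 0, 2] .nil .nil) (.cons [5, 8, 3] .nil (.cons [6, 8, 3] .nil (.cons [14, 8, 3] .nil (.cons [17, 8, 3] .nil (.cons [18, 8, 3] .nil (.cons [4, 17, 8]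 .nil (.cons [13, 10, 2] .nil (.cons [14, 10, 2] .nil (.cons [16, 10, 2] .nil (.cons [18, 10, 2] .nil (.cons [9, 0, 9] (.cons [1, 2, 0, 0, 2, 0, 2, 1, 2, 1, 2, 1, 2] .nil .nil) (.cons [10, 0, 9] .nil (.cons [15, 0, 9] (.cons [2, 0, 2, 0] .nil .nil) (.cons [17, 0, 9] (.cons [2, 0, 0, 2, 1, 2, 1, 1, 2, 0, 2, 0, 0] .nil .nil) (.cons [18, 0, 9] (.cons [2, 0, 2, 0, 0, 2, 1, 2, 1, 2, 0, 2] .nil .nil) (.cons [9, 4, 3] .nil (.cons [10, 4, 3] .nil (.cons [11, 4, 3] .nil (.cons [6, 0, 12] .nil (.cons [5, 6, 2] (.cons [1, 2, 0, 0, 2, 1, 2, 0, 2, 0, 2, 0] .nil .nil) (.cons [10, 6, 2] .nil (.cons [11, 6, 2] .nil (.cons [16, 6, 2] .nil (.cons [17, 6, 2] (.cons [0, 2, 0, 2, 0, 2, 1, 2, 0] .nil .nil) (.cons [18, 6, 2] .nil (.cons [12, 5, 2] (.cons [1, 2, 0, 0, 2, 1, 2, 0, 2, 0, 2, 0] .nil .nil) (.cons [14, 5, 2] .nil (.cons [15, 5, 2] .nil (.cons [16, 5, 2] .nil (.cons [17, 5, 2] .nil (.cons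 [19, 5, 2] (.cons [0, 0, 2, 0, 2, 0, 0, 2, 1, 1, 2] .nil .nil) (.cons [4, 8, 4] .nil (.cons [5, 8, 4] .nil (.cons [6, 8, 4] .nil (.cons [10, 8, 4] .nil (.cons [11, 8, 4] .nil (.cons [15, 8, 4] .nil (.cons [6, 2, 10] .nil (.cons [12, 2, 10] .nil (.cons [4, 3, 6] .nil (.cons [10, 3, 6] .nil (.cons [14, 3, 6] .nil (.cons [4, 2, 6] .nil (.cons [17, 2, 6] .nil (.cons [18, 2, 6] .nil (.cons [4, 14, 3] .nil (.cons [6, 14, 3] .nil (.cons [12, 14, 3] .nil (.cons [4, 9, 3] .nil (.cons [13, 9, 3] .nil (.cons [14, 9, 3] .nil (.cons [17, 9, 3] (.cons [1, 1, 2, 0, 2, 1, 2, 1] .nil .nil) (.cons [9, 5, 9] .nil (.cons [10, 5, 9] (.cons [0, 2, 1, 1, 2, 0, 0, 2, 1, 2, 1, 2, 0, 0] .nil .nil) (.cons [11, 5, 9] .nil (.cons [12, 5, 9] (.cons [2, 0, 0, 2, 0, 2, 1, 2, 1, 2, 1, 2] .nil .nil) (.cons [4, 11, 3] .nil (.cons [5, 11, 3] .nil (.cons [13, 11, 3] (.cons [1, 1, 2, 0, 2, 1, 2, 0, 0, 2, 0, 0]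 .nil .nil) (.cons [14, 11, 3] (.cons [1, 1, 2, 0, 0, 2, 0, 2, 1, 2, 1, 2, 1, 2] .nil .nil) (.cons [4, 7, 3] .nil (.cons [5, 7, 3] .nil (.cons [11, 7, 3] (.cons [1, 2, 0, 2, 0] .nil .nil) (.cons [13, 7, 3] (.cons [2, 1, 2, 1, 1, 2, 1, 2, 1, 1, 2, 0, 2, 1, 2] .nil .nil) (.cons [14, 7, 3] .nil (.cons [17, 7, 3] (.cons [1, 2, 0, 2, 1, 1, 2, 1, 2, 0] .nil .nil) (.cons [18, 7, 3] .nil (.cons [14, 7, 7] .nil (.cons [9, 6, 6] .nil (.cons [14, 6, 6] .nil (.cons [19, 6, 6] .nil (.cons [9, 12, 6] .nil (.cons [10, 12, 6] (.cons [0, 2, 0, 2, 0, 2, 1, 2, 1, 2, 1, 2] .nil .nil) (.cons [14, 12, 6] .nil (.cons [18, 12, 6] .nil (.cons [10, 7, 2] (.cons [1, 2, 1, 2, 1, 2, 0] (.cons [4, 8, 0] (.leaf 3) .nil) .nil) (.cons [15, 7, 2] .nil (.cons [6, 0, 13] .nil (.cons [12, 0, 13] .nil (.cons [15, 0, 13] .nil (.cons [17, 0, 13] (.cons [1, 1, 2, 1, 1, 2, 0, 2, 1, 2] .nil .nil) (.cons [11, 6, 5] (.cons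 [1, 2, 1, 1, 2, 0, 2, 0, 0] .nil .nil) (.cons [15, 6, 5] .nil (.cons [18, 6, 5] .nil (.cons [9, 15, 17] .nil (.cons [12, 15, 17] .nil (.cons [13, 15, 17] .nil (.cons [16, 15, 17] (.cons [0, 0, 2, 1, 1, 2] (.cons [4, 6] (.leaf 3) .nil) .nil) (.cons [17, 15, 17] .nil (.cons [19, 15, 17] .nil (.cons [4, 14, 17] .nil (.cons [9, 14, 17] .nil (.cons [10, 14, 12] .nil (.cons [11, 14, 12] .nil (.cons [16, 7, 15] .nil (.cons [4, 13, 9] .nil (.cons [5, 13, 9] .nil (.cons [11, 13, 9] (.cons [0, 0, 2, 0, 2, 0, 2, 0, 0, 2, 1, 1, 2] .nil .nil) (.cons [4, 9, 7] .nil (.cons [10, 9, 7] .nil (.cons [11, 9, 7] .nil (.cons [16, 9, 7] .nil (.cons [10, 9, 11] (.cons [2, 1, 2, 0, 2, 1, 2, 1, 2, 0, 2] .nil .nil) (.cons [11, 9, 11] .nil (.cons [16, 7, 17] .nil (.cons [17, 7, 17] .nil (.cons [18, 7, 17] .nil (.cons [11, 8, 11] .nil (.cons [14, 8, 11] .nil (.cons [5, 19, 2] .nil (.cons [11, 19, 2] (.cons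 [0, 2, 1, 2, 0, 2] .nil .nil) (.cons [15, 19, 2] .nil (.cons [14, 7, 10] .nil (.cons [17, 7, 10] .nil (.cons [19, 14, 9] .nil (.cons [10, 19, 3] .nil (.cons [5, 17, 3] .nil (.cons [6, 17, 3] .nil (.cons [12, 17, 3] (.cons [1, 1, 2, 1, 2, 1, 2, 0, 2, 0, 0, 2, 0, 2, 0] .nil .nil) (.cons [13, 17, 3] .nil (.cons [6, 4, 7] (.cons [2, 1, 1, 2, 0, 2, 0, 0, 2, 0, 0, 2, 1, 2, 1] (.cons [8, 0] (.leaf 3) .nil) .nil) (.cons [12, 4, 7] (.cons [1, 2, 0, 0, 2, 1, 2, 0, 2] .nil .nil) (.cons [13, 4, 7] .nil (.cons [17, 4, 7] .nil (.cons [4, 18, 3] .nil (.cons [5, 18, 3] .nil (.cons [11, 18, 3] .nil (.cons [16, 18, 3] .nil (.cons [6, 15, 12] (.cons [2, 0, 2, 1, 2, 0, 2, 1, 2, 1, 1, 2] .nil .nil) (.cons [5, 17, 13] .nil (.cons [9, 5, 7] (.cons [2, 1, 2, 1, 2, 0, 2, 1, 2, 0, 0, 2, 1] .nil .nil) (.cons [11, 5, 7] .nil (.cons [12, 5, 7] .nil (.cons [14, 5, 7] .nil (.cons [15, 5, 7] (.cons [1, 1,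 2, 0, 0, 2, 0, 2, 1, 2, 1, 2, 1, 2] .nil .nil) (.cons [19, 5, 7] .nil (.cons [10, 2, 16] (.cons [1, 1, 2, 0, 2, 1, 2] .nil .nil) (.cons [17, 2, 16] .nil (.cons [13, 6, 4] (.cons [2, 0, 2, 0, 2, 0, 2, 0, 2] .nil .nil) (.cons [14, 6, 4] .nil (.cons [16, 6, 4] (.cons [2, 1, 2, 1, 1, 2, 0, 0, 2, 1, 2, 0, 2] .nil .nil) (.cons [17, 5, 17] (.cons [0, 2, 0, 2, 1, 1, 2, 0, 2, 1, 2] .nil .nil) (.cons [18, 5, 17] .nil (.cons [10, 4, 17] .nil (.cons [13, 4, 17] (.cons [1, 1, 2, 1, 2, 1, 2, 1, 1, 2] .nil .nil) (.cons [15, 5, 6] (.cons [2, 0, 2, 0, 2, 1, 2, 1, 2, 0] .nil .nil) (.cons [17, 5, 6] .nil (.cons [19, 7, 11] .nil (.cons [11, 6, 11] .nil (.cons [12, 6, 11] .nil (.cons [16, 6, 11] .nil (.cons [12, 14, 11] .nil (.cons [16, 14, 11] .nil (.cons [18, 2, 15] .nil (.cons [12, 11, 9] .nil (.cons [4, 11, 8] .nil (.cons [19, 11, 8] .nil (.cons [6, 18, 17] (.cons [0, 2, 0, 2, 1, 2, 0, 0,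 2, 0, 0] .nil .nil) (.cons [6, 10, 8] .nil (.cons [13, 10, 8] .nil (.cons [9, 4, 10] .nil (.cons [5, 12, 11] .nil (.cons [15, 12, 11] (.cons [1, 2, 1, 2, 0] .nil .nil) (.cons [4, 14, 2] (.cons [1, 2, 0, 0, 2, 0, 2, 1, 2, 1, 2, 0] .nil .nil) (.cons [10, 17, 2] .nil (.cons [10, 18, 2] (.cons [1, 2, 1, 2, 0, 0, 2, 0, 2] .nil .nil) (.cons [11, 16, 2] .nil (.cons [4, 11, 17] .nil (.cons [5, 11, 17] .nil (.cons [16, 11, 17] .nil (.cons [4, 9, 10] .nil (.cons [6, 9, 10] .nil (.cons [13, 9, 10] .nil (.cons [12, 10, 17] (.cons [1, 2, 0, 2, 1, 2, 0, 0, 2, 0, 2] .nil .nil) (.cons [17, 10, 17] (.cons [0, 2, 1, 1, 2, 0, 2, 0, 0, 2, 0, 2] .nil .nil) (.cons [6, 14, 8] .nil (.cons [10, 14, 8] (.cons [0, 2, 1, 2, 0, 2, 0, 2, 1, 1, 2, 0, 2, 0, 2] .nil .nil) (.cons [12, 14, 8] (.cons [2, 0, 2, 1, 2, 0, 2, 1, 2, 1, 2] .nil .nil) (.cons [4, 3, 15] .nil (.cons [11, 4, 9] .nil (.cons [12, 4, 9]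 .nil (.cons [19, 4, 9] .nil (.cons [11, 0, 16] (.cons [1, 2, 1, 1, 2, 0, 0, 2, 0, 2] .nil .nil) (.cons [14, 0, 16] .nil (.cons [12, 15, 10] .nil (.cons [13, 15, 10] (.cons [2, 0, 2, 0, 2, 0, 0, 2, 1, 1, 2] .nil .nil) (.cons [15, 18, 6] (.cons [2, 1, 2, 1, 2, 0, 2] .nil .nil) (.cons [18, 18, 6] (.cons [2, 0, 2, 0, 0, 2, 0, 0, 2, 1, 2, 1] .nil .nil) (.cons [16, 4, 15] (.cons [0, 2, 1, 2, 0, 0, 2, 0, 2, 1, 2, 0] .nil .nil) (.cons [11, 6, 10] (.cons [1, 2, 0, 2, 1, 2, 1, 2, 0, 0, 2, 1, 2, 1] .nil .nil) (.cons [13, 6, 10] .nil (.cons [17, 6, 10] .nil (.cons [18, 6, 10] .nil (.cons [19, 6, 10] .nil (.cons [4, 7, 8] .nil (.cons [11, 7, 8] .nil (.cons [12, 7, 8] .nil (.cons [19, 7, 8] .nil (.cons [10, 0, 15] .nil (.cons [11, 0, 15] .nil (.cons [13, 6, 8] .nil (.cons [18, 6, 8] .nil (.cons [18, 13, 7] .nil (.cons [9, 12, 7] (.cons [2, 1, 2, 0, 2, 0, 0] .nil .nil) (.cons [10, 12, 7]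 .nil (.cons [11, 12, 7] .nil (.cons [12, 16, 15] (.cons [0, 2, 0, 2, 0, 2, 0, 2, 0, 0] .nil .nil) (.cons [13, 16, 15] (.cons [2, 0, 2, 1, 2, 0, 2, 1, 2, 0, 2, 1] .nil .nil) (.cons [10, 13, 11] .nil (.cons [5, 13, 14] .nil (.cons [11, 13, 14] .nil (.cons [17, 13, 14] (.cons [0, 2, 1, 1, 2, 0, 2, 1, 2, 1] .nil .nil) (.cons [11, 9, 5] .nil (.cons [18, 9, 5] .nil (.cons [5, 8, 5] .nil (.cons [13, 8, 5] .nil (.cons [18, 8, 5] .nil (.cons [15, 12, 5] .nil (.cons [17, 13, 4] (.cons [0, 0, 2, 1, 2, 0, 0, 2, 1, 2, 1, 2] .nil .nil) (.cons [15, 12, 4] .nil (.cons [4, 18, 5] (.cons [2, 0, 2, 0, 2, 1, 1, 2, 1, 2, 0, 0] .nil .nil) (.cons [5, 18, 5] .nil (.cons [18, 18, 5] .nil (.cons [9, 7, 9] .nil (.cons [18, 6, 9] .nil (.cons [0, 7, 12] (.cons [1, 2, 0, 0, 2, 0, 2, 0, 2, 0, 0] .nil .nil) (.cons [3, 7, 12] .nil (.cons [11, 7, 12] .nil (.cons [18, 7, 12] .nil (.cons [13, 6, 12] (.cons [1,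 2, 0, 2, 0, 2, 0, 2, 1, 2, 0] (.cons [0, 9] (.leaf 0) .nil) .nil) (.cons [16, 5, 13] (.cons [2, 0, 2, 1, 2, 0, 2, 0, 2, 0] .nil .nil) (.cons [18, 12, 14] (.cons [1, 2, 0, 2, 0] .nil .nil) (.cons [9, 7, 13] .nil (.cons [3, 4, 14] .nil (.cons [19, 14, 6] .nil (.cons [15, 13, 16] .nil (.cons [16, 13, 16] .nil (.cons [17, 12, 16] .nil (.cons [3, 15, 16] (.cons [1, 2, 1, 2, 0, 2, 1, 2, 1, 1, 2] .nil .nil) (.cons [12, 15, 16] (.cons [2, 1, 2, 1, 2, 0, 0, 2, 0, 2] .nil .nil) (.cons [9, 16, 11] .nil (.cons [19, 16, 11] .nil (.cons [11, 12, 10] (.cons [0, 0, 2, 0, 0, 2, 1, 2, 1, 1, 2] .nil .nil) (.cons [15, 12, 10] (.cons [2, 1, 2, 0, 0, 2, 1, 2, 1, 2] .nil .nil) (.cons [17, 8, 6] .nil (.cons [13, 10, 6] (.cons [1, 1, 2, 0, 2, 1, 2, 0, 2, 0, 2, 1] .nil .nil) (.cons [19, 10, 6] .nil (.cons [11, 13, 6] (.cons [2, 0, 2, 1, 2, 0, 2, 0, 0, 2, 0, 0] .nil .nil) (.cons [14, 13, 6] .nil (.cons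 [15, 13, 6] .nil (.cons [10, 9, 13] .nil (.cons [5, 8, 13] .nil (.cons [19, 10, 13] .nil (.cons [4, 18, 15] .nil (.cons [6, 12, 15] .nil (.cons [19, 12, 15] (.cons [2, 0, 2, 1, 2, 1, 2, 0, 2, 0, 0] .nil .nil) (.cons [10, 16, 6] .nil (.cons [19, 15, 11] .nil (.cons [5, 19, 5] .nil (.cons [9, 5, 16] .nil (.cons [17, 5, 16] .nil (.cons [13, 17, 7] (.cons [2, 0, 2, 0, 2, 0, 2, 1, 2, 1] .nil .nil) (.cons [6, 18, 7] .nil (.cons [4, 16, 7] .nil (.cons [9, 16, 7] .nil (.cons [10, 16, 7] .nil (.cons [11, 6, 14] .nil (.cons [15, 6, 14] (.cons [2, 1, 2, 0, 2, 1, 2, 0, 2, 1] .nil .nil) (.cons [13, 8, 14] (.cons [0, 2, 1, 2, 0, 2, 0, 0, 2, 0, 2, 0] .nil .nil) (.cons [6, 19, 13] (.cons [1, 1, 2, 0, 0, 2, 1, 2, 0, 0, 2, 0, 2, 0] .nil .nil) (.cons [0, 17, 4] (.cons [2, 0, 0, 2, 0, 2] (.cons [6, 0, 9, 0] (.leaf 3) .nil) .nil) (.cons [19, 17, 4] (.cons [2, 1, 1, 2, 0, 2, 0, 2, 0, 2, 0, 2] .nil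 .nil) (.cons [11, 4, 16] .nil (.cons [13, 16, 10] (.cons [1, 1, 2, 1, 2, 0, 2, 1, 2, 1] .nil .nil) (.cons [4, 11, 15] .nil (.cons [17, 11, 15] .nil (.cons [9, 19, 15] .nil (.cons [13, 19, 15] (.cons [2, 0, 2, 1, 2, 1, 2, 1, 1, 2] .nil .nil) (.cons [14, 19, 15] (.cons [0, 2, 1, 2, 1, 2, 0, 2, 0, 2] .nil .nil) (.cons [10, 9, 0, 3] .nil (.cons [16, 11, 7, 10] (.cons [0, 2, 0, 0, 2, 0, 0, 2, 1, 1, 2] .nil .nil) (.cons [15, 6, 0, 9] (.cons [1, 2, 1, 1, 2, 1, 2, 1, 1, 2, 0, 2, 1, 2] .nil .nil) (.cons [10, 12, 5, 9] .nil (.cons [13, 4, 7, 3] (.cons [1, 1, 2, 0, 2, 0, 2, 1, 2, 0, 2] .nil .nil) (.cons [10, 5, 7, 2] .nil (.cons [12, 4, 17, 8] .nil (.cons [10, 16, 8, 2] .nil (.cons [5, 9, 4, 7] .nil (.cons [4, 17, 15, 17] .nil (.cons [4, 8, 15, 17] .nil (.cons [16, 18, 8, 14] .nil .nil)))))))))))))))))))))))))))))))))))))))))))))))))))))))))))))))))))))))))))))))))))))))))))))))))))))))))))))))))))))))))))))))))))))))))))))))))))))))))))))))))))))))))))))))))))))))))))))))))))))))))))))))))))))))))))))))))))))))))))))))))))))))))))))))))))))))))))))))))))))))))))))))))))))))))))))))))))))))))))))))))))))))))))))))))))))))))))))))))))))))))))))))))))))))))))))))))))))))))))))))))))))))))))))))))))))))))))))))))))))))))))))))))))))))))))))))))))))))))))))))))))))))))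 (⟨c8_l0.b, c8_l0.S, [], c8_R0, 0⟩ :: c8_tl) (0 :: c8_lk) Pd.nil 0 = true := by decide +kernel
theorem c8_sound {G : Type*} [Group G] {φ : G →* Equiv.Perm ℕ} {γ : ℕ → G}
    (M : Model φ γ 12 J4C.m_ns J4C.m_ts) : ChainSound φ (gp γ [0, 2, 4, 6, 8, 10, 12, 14, 16, 18]) 12 [] c8_ls :=
  ⟨Level.ok_sound' M c8_l0_ok,
   Level.ok_sound' M c8_l1_ok,
   Level.okT_sound M c8_l2_ok, trivial⟩
theorem c8_cent {G : Type*} [Group G] {φ : G →* Equiv.Perm ℕ} {γ : ℕ → G}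
    (C : Cert φ γ 12 J4C.m_ns J4C.m_ts [0, 2, 4, 6, 8, 10, 12, 14, 16, 18] J4C.c_ls) : Cent γ c8_S.u c8_S.Cl 7 :=
  have X := (C.rechain (c8_sound C.M) (by decide +kernel)).exact
  have A := Srch.auxB_sound (S := c8_S) C.M (K := ⊤) le_top rfl c8_aux
  have F := fun {tr : Tr} {R : ℕ} => Srch.found_of_run (S := c8_S) C.M C.base (by decide +kernel) X A (tr := tr) (R := R)
  Cent.of_found (S := c8_S) C.M X rfl (F c8_r0) c8_cov

end Cfsg.Agent.J4C.V
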