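import Cfsg.Agent.J4C.V.OutC
import Cfsg.Agent.J4C.V.Cen8
import Cfsg.Agent.J4C.Lib5

set_option autoImplicit false
set_option Elab.async false
set_option maxRecDepth 100000
set_option linter.all false

namespace Cfsg.Agent.J4C.V
open Cfsg.Agent.CGT

noncomputable def VW : List (List ℕ) := [[0], [2, 0, 3], [4, 0, 5], [5, 0, 4], [6, 0, 7], [7, 0, 6], [8, 0, 9], [9, 0, 8], [13, 0, 12], [14, 0, 15], [17, 0, 16]]
noncomputable def v_l : Level := ⟨0, VW, [0, 1, 2, 3, 4, 5, 6, 7, 8, 9, 10], 0xffffffffffffffffffffffffffffffffffffffffffffffffffffffffffffffffffffffffffffffffffffffffffffffffffffffffffffffffffffffffffffffffffffffffffffffffffffffffffffffffffffffffffffffffffffffffffffffffffffffffffffffffffffffffffffffffffffffffffffffffffffffffffffffffffffffffffffffffffffffffffffffffffffffffffffffffffffffffffffffffffffffffffffffffffffffffffffffffffffffffffffffffffffffffffffffffffffffffffffffffffffffffffffffffffffffffffffffffffffffffffffffffffffffffffffffffffffffffffffffffffffffffffffffffffffffffffffffff,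 2048⟩
theorem proj : ∃ π : K2 →* K, ∀ i, π (γ2 i) = zt (MonoidHom.id K) γ 1 i := by
  obtain ⟨φ, C⟩ := J4C.cert
  refine pg_ext_lift (MonoidHom.id K) (ZR := R.ZR2) fun r hr => ?_
  have h : (allL R.ZR2 fun r => isK 12 J4C.m_ts (chainBase [] J4C.c_ls) (subz [] r)) = true := by decide +kernel
  have h1 := allL_iff.1 h r hr
  rw [isK, Bool.and_eq_true] at h1
  refine (ev_subz (MonoidHom.id K) γ 1 [] r).symm.trans ?_
  rw [← beqL_sound h1.1, ev_sh]
  exact C.base _ trivial (fixesB_sound C.M (by decide +kernel) h1.2)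
theorem mem_ker {π : K2 →* K} (hπ : ∀ i, π (γ2 i) = zt (MonoidHom.id K) γ 1 i) {w : List ℕ}
    (h : isK 12 J4C.m_ts (chainBase [] J4C.c_ls) (subz [] w) = true) : ev (ext γ2) w ∈ π.ker := by
  obtain ⟨φ, C⟩ := J4C.cert
  rw [isK, Bool.and_eq_true] at h
  rw [MonoidHom.mem_ker, map_ev_ext, funext hπ]
  refine (ev_subz (MonoidHom.id K) γ 1 [] w).symm.trans ?_
  rw [← beqL_sound h.1, ev_sh]
  exact C.base _ trivial (fixesB_sound C.M (by decide +kernel) h.2)
theorem sig_ev {σ : K →* K2} (hσ : zt σ γ (γ2 0) = γ2) (w : List ℕ) :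
    σ (ev (ext γ) w) = ev (ext γ2) (sh w) := by
  rw [← ev_sh σ γ (γ2 0), hσ]
theorem aff {π : K2 →* K} (hπ : ∀ i, π (γ2 i) = zt (MonoidHom.id K) γ 1 i) {σ : K →* K2}
    (hσ : zt σ γ (γ2 0) = γ2) {φ : K2 →* Equiv.Perm ℕ} (C : Cert φ γ2 11 m_ns m_ts [0, 2, 4, 6, 8, 10, 12, 14, 16, 18, 20] c_ls) : Aff π σ φ := by
  haveI := C.fin
  have sec : ∀ k, π (σ k) = k := fun k => DFunLike.congr_fun (hom_ext_gp (f := π.comp σ)
    (g := MonoidHom.id K) gen_top fun j => (congrArg π (congrFun hσ (j + 1))).trans (hπ (j + 1))) k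
  have hc : Nat.card π.ker = 2048 := by
    have h1 := π.ker.card_mul_index
    rw [Subgroup.index_ker, MonoidHom.range_eq_top.2 fun k => ⟨_, sec k⟩, Subgroup.card_top,
      J4C.card_eq, card_eq] at h1
    omega
  have hV : gw γ2 VW = π.ker := by
    have h : (allL VW fun w => isK 12 J4C.m_ts (chainBase [] J4C.c_ls) (subz [] w)) = true := by decide +kernel
    refine Subgroup.eq_of_le_of_card_ge (gw_le fun w hw => mem_ker hπ (allL_iff.1 h w hw)) ?_
    exact hc.le.trans (le_of_eq_of_le (by decide +kernel) (card_gw_ge C.M (Ws := (List.range 11).map fun i => [2 * i])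
      (ls := [v_l]) (by decide +kernel) (by decide +kernel)))
  have he := gw_elem C.M C.base (by decide +kernel) (S := VW) (by decide +kernel)
  rw [hV] at he
  refine ⟨sec, he.1, he.2, fun k => ?_, fun m hm => ?_, hc⟩
  · have h : (allL [0, 2, 4, 6, 8, 10, 12, 14, 16, 18] fun a => fixesB 11 m_ts (sh [a]) [0]) = true := by decide +kernel
    have : gp γ [0, 2, 4, 6, 8, 10, 12, 14, 16, 18] ≤ (St φ ⊤ [0]).comap σ := gp_le fun a ha => ⟨trivial, by
      rw [← ev_singleton (ext γ), sig_ev hσ]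
      exact fixesB_sound C.M (by decide +kernel) (allL_iff.1 h a ha)⟩
    exact (this (gen_top ▸ Subgroup.mem_top k)).2 0 (by simp)
  · have h : LW = ([0, 2, 4, 6, 8, 10, 12, 14, 16, 18].map fun a => [a]).map sh := by decide +kernel
    refine gw_le (H := σ.range) (fun w hw => ?_) (stab C m hm)
    obtain ⟨u, -, rfl⟩ := List.mem_map.1 (h ▸ hw)
    exact ⟨_, sig_ev hσ u⟩
noncomputable def cchk (w : List ℕ) : Bool :=
  fixesB 12 J4C.m_ts w (chainBase [] J4C.c_ls) || !fixesB 12 J4C.m_ts (app w w) (chainBase [] J4C.c_ls) ||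
    eqB 12 J4C.m_ts (chainBase [] J4C.c_ls) w (pw [0, 6] 4) ||
    eqB 12 J4C.m_ts (chainBase [] J4C.c_ls) (app w (app [5, 16, 5, 12, 8, 4] (app w (invW [5, 16, 5, 12, 8, 4])))) (pw [0, 6] 4)
theorem char_V {π : K2 →* K} (hπ : ∀ i, π (γ2 i) = zt (MonoidHom.id K) γ 1 i) {A : Subgroup K2}
    (hA : Nat.card A = Nat.card π.ker) (Ac : ∀ a ∈ A, ∀ b ∈ A, a * b = b * a) (Ae : ∀ a ∈ A, a * a = 1)
    (AV : ∀ v ∈ π.ker, ∀ a ∈ A, v * a * v⁻¹ ∈ A)
    (Au : ∀ a ∈ A, ev (ext γ2) (sh [0, 6]) * a * (ev (ext γ2) (sh [0, 6]))⁻¹ ∈ A)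
    (An : ∀ a ∈ A, ev (ext γ2) (sh [5, 16, 5, 12, 8, 4]) * a * (ev (ext γ2) (sh [5, 16, 5, 12, 8, 4]))⁻¹ ∈ A) : A = π.ker := by
  obtain ⟨φ, C⟩ := cert
  obtain ⟨ψ, D⟩ := J4C.cert
  obtain ⟨σ, hσ⟩ := sig2
  haveI := C.fin
  have h := aff hπ hσ C
  have e4 : σ (ev (ext γ) [0, 6] ^ 4) = ev (ext γ2) (sh (pw [0, 6] 4)) := by rw [← ev_pw, sig_ev hσ]
  have key : ∀ (s : List ℕ) (p : ℕ), (isK 12 J4C.m_ts (chainBase [] J4C.c_ls) (subz [] s) &&
      Nat.beq (ap 11 (msk 11) m_ts (app s (app (sh (pw [0, 6] 4)) (app (invW s) (invW (sh (pw [0, 6] 4)))))) 0) p) = true →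
      ∃ s ∈ π.ker, φ (s * σ (ev (ext γ) [0, 6] ^ 4) * s⁻¹ * (σ (ev (ext γ) [0, 6] ^ 4))⁻¹) 0 = p := fun s p hs => by
    rw [Bool.and_eq_true, Nat.beq_eq, msk_eq, C.M.ap _ (by norm_num), ev_app, ev_app, ev_app, ev_invW,
      ev_invW, ← mul_assoc, ← mul_assoc, ← e4] at hs
    exact ⟨_, mem_ker hπ hs.1, hs.2⟩
  refine h.char (u := ev (ext γ) [0, 6]) (n := ev (ext γ) [5, 16, 5, 12, 8, 4]) ?_ (fun c hc h2 h1 => ?_) (F := [513, 260, 130, 8, 0]) ?_ ?_ (r := ev (ext γ2) [10, 16, 11, 17, 11, 18])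
    ⟨trivial, fixesB_sound C.M (by decide +kernel) (by decide +kernel)⟩
    (fun m hm => C.fix_mem (d := 8) (S := [sh (pw [0, 6] 4)]) m (by rw [e4] at hm; simpa using hm))
    (by rw [← popc_eq]; decide +kernel)
    (fun m hm hr => C.fix_mem (d := 8) (S := [sh (pw [0, 6] 4), [10, 16, 11, 17, 11, 18]]) m (by
      rw [e4] at hm; simp only [List.forall_mem_cons, List.not_mem_nil, IsEmpty.forall_iff, implies_true, and_true]
      exact ⟨hm, hr⟩))
    (by rw [← popc_eq]; decide +kernel) (hA.trans h.card) Ac Ae AV (by rwa [sig_ev hσ]) (by rwa [sig_ev hσ])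
  · rw [← ev_pw]; exact D.base _ trivial (fixesB_sound D.M (by decide +kernel) (by decide +kernel))
  · obtain ⟨i, hi, j, e⟩ := c8_cent D c hc
    have h3 : (allL (List.range 8) fun i => allL [[], [4, 10, 3, 11, 5, 19, 14, 19]] fun c => cchk (app c (pw [0, 6] i))) = true := by
      decide +kernel
    have h4 : nth [] c8_S.Cl j ∈ [[], [4, 10, 3, 11, 5, 19, 14, 19]] := by
      rcases j with _ | j
      · exact List.mem_cons_of_mem _ List.mem_cons_self
      · exact List.mem_cons_self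
    have h5 := allL_iff.1 (allL_iff.1 h3 i (List.mem_range.2 (by omega))) _ h4
    have e' : c = ev (ext γ) (app (nth [] c8_S.Cl j) (pw [0, 6] i)) := by rw [ev_app, ev_pw]; exact e
    generalize app (nth [] c8_S.Cl j) (pw [0, 6] i) = w at h5 e'
    subst e'
    have hp : ptsOK 12 (chainBase [] J4C.c_ls) = true := by decide +kernel
    simp only [cchk, Bool.or_eq_true, Bool.not_eq_true'] at h5
    rcases h5 with ((h5 | h5) | h5) | h5
    · exact (h1 (D.base _ trivial (fixesB_sound D.M hp h5))).elim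
    · rw [fixesB_complete D.M hp (by rw [ev_app, h2]; simp)] at h5
      cases h5
    · exact .inl (ev_pw (ext γ) _ 4 ▸ eqB_sound D.M D.base hp trivial trivial h5)
    · have := eqB_sound D.M D.base hp trivial trivial h5
      rw [ev_app, ev_app, ev_app, ev_invW, ev_pw, ← mul_assoc _ _ (_⁻¹)] at this
      exact .inr this
  · simp only [List.forall_mem_cons, List.not_mem_nil, IsEmpty.forall_iff, implies_true, and_true]
    exact ⟨key [14, 7, 0, 17, 8, 0, 9, 6] 513 (by decide +kernel), key [8, 0, 9, 16, 0, 17] 260 (by decide +kernel), key [9, 0, 14, 16, 0, 17, 15, 8] 130 (by decide +kernel), key [18, 0, 18, 0, 18, 0] 8 (by decide +kernel), key [] 0 (by decide +kernel)⟩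
  · exact (ChainSound.card_St_le (ls := [c_l0, c_l1, c_l2, c_l3, c_l4]) (ls' := [c_l5, c_l6, c_l7]) (F := []) C.sound
      (by decide +kernel) (by rw [St_nil, Subgroup.card_top, card_eq]; decide +kernel)).trans (by decide +kernel)
/-- Every automorphism is, up to an inner one, trivial or the standard outer one on `K2`. -/
theorem aut_on {G : Type*} [Group G] [Finite G] {j : K2 →* G} (hj : Function.Injective j)
    (hfix : ∀ g : G, (∀ n : K2, g⁻¹ * j (n * γ2 0 * n⁻¹) * g ∈ j.range) → g ∈ j.range)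
    {β : MulAut K2} (hβ : ∀ i, β (γ2 i) = wg γ2 bW i) (α : MulAut G) :
    ∃ g : G, (∀ m, (MulAut.conj g * α) (j m) = j m) ∨ ∀ m, (MulAut.conj g * α) (j m) = j (β m) := by
  obtain ⟨π, hπ⟩ := proj
  obtain ⟨φ, C⟩ := cert
  obtain ⟨σ, hσ⟩ := sig2
  have h := aff hπ hσ C
  obtain ⟨g, b, e⟩ := norm_M hj h.comm h.sq (u := ev (ext γ2) (sh [0, 6])) (n := ev (ext γ2) (sh [5, 16, 5, 12, 8, 4]))
    (by rw [← ev_pw]; exact C.base _ trivial (fixesB_sound C.M (by decide +kernel) (by decide +kernel)))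
    (by rw [← ev_pw]; exact C.base _ trivial (fixesB_sound C.M (by decide +kernel) (by decide +kernel)))
    (by rw [← ev_pw, ← ev_invW, ← ev_app, ← ev_app]
        exact eqB_sound C.M C.base (by decide +kernel) trivial trivial (by decide +kernel))
    (fun g hg => hfix g fun n => hg _ (π.normal_ker.conj_mem _ (hπ 0) n))
    (fun A => char_V hπ) α
  obtain ⟨n, hn⟩ := aut_K2 hβ b
  have e2 : ∀ m, (MulAut.conj (j n * g) * α) (j m) = j ((MulAut.conj n * b) m) := fun m => by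
    rw [map_mul, mul_assoc, MulAut.mul_apply, e]; simp
  refine ⟨j n * g, hn.imp (fun h m => ?_) fun h m => ?_⟩
  · rw [e2, h]; rfl
  · rw [e2, h]

end Cfsg.Agent.J4C.V
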