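import Cfsg.Agent.J4C.V.Cert
import Cfsg.Agent.CGT.Out

set_option autoImplicit false
set_option Elab.async false
set_option maxRecDepth 100000
set_option linter.all false

namespace Cfsg.Agent.J4C.V
open Cfsg.Agent.CGT

noncomputable def g_Ws : List (List ℕ) := [[0, 16, 18, 0, 15, 0, 16, 7, 19, 17, 4], [19, 6, 18, 0, 6, 2, 9, 10, 5], [12, 10, 0, 8, 11, 18, 17, 11, 13, 5], [4, 8, 18, 0, 19, 0, 9, 5], [6, 18, 11, 2, 19, 14, 5], [2, 9, 12, 17, 7, 10, 6, 2], [14, 18, 8, 11, 9, 18, 6], [10, 18, 6, 18, 16, 18], [17, 5, 21, 6, 20, 15, 8, 2], [20, 12, 20, 2, 9, 17, 21], [19, 10, 16, 15, 9, 21, 12, 4], [9, 12, 14, 7, 19, 14, 10], [2, 15, 9, 10, 19, 2], [15, 5, 20, 15, 18, 8, 17, 4], [9, 12, 14, 7, 19, 14, 10], [18, 8, 2, 18, 7, 20, 7], [4, 18, 16, 18, 11, 17, 5], [12, 9, 21, 10, 9, 12, 5], [12, 19, 10, 16, 6, 13], [18, 9, 9, 18, 7, 14,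 8], [14, 6, 19, 12, 16, 18, 14], [18, 9, 9, 18, 7, 14, 8], [8, 12, 20, 20, 13, 9], [0], [2], [4], [6], [8], [10], [12], [14], [16], [18], [20]]
theorem g_s0 : slpB 11 m_ts (chainBase [] c_ls) g_Ws [[4, 2, 4, 1, 7, 5, 0, 2, 5, 1, 4], [5, 0, 7, 1, 3, 1, 6, 0, 5, 7], [8, 11, 11, 9, 11, 10, 10, 8, 10, 10, 10, 11, 10, 8, 11], [9, 11, 9, 9, 11, 11, 8, 8, 10, 8, 8, 10, 9, 11], [8, 11, 9, 10, 10, 8, 11, 10, 9], [14, 17, 12, 13, 12, 14, 14, 12, 16, 12, 17], [14, 16, 15, 13, 17, 15, 13, 17], [19, 18, 19, 19, 18, 21], [18, 20, 21, 18, 21, 21, 19, 19, 20], [21, 18, 20, 18, 20, 20, 18, 20, 19], [21, 19, 21, 20, 18, 20, 19, 21], [19, 20, 20, 21, 20, 20, 18, 21, 18], [22, 24, 23, 27, 23, 24], [23, 23, 31, 23], [28, 30, 30, 29, 24, 31], [23, 24, 26, 30, 23, 28, 25, 23], [37, 32, 34, 36], [33, 39, 32], [41, 42, 41, 40], [1, 6, 0, 2, 11, 8, 11,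 15, 16, 19, 21, 19, 25, 23, 36, 40], [10, 10, 9, 10, 9, 14, 16, 12, 12, 18, 21, 19, 23, 36, 32], [10, 8, 11, 11, 9, 9, 13, 15, 12, 20, 18, 18, 23, 32, 40, 44], [8, 8, 11, 11, 8, 14, 17, 14, 21, 21, 18, 25, 22, 40], [9, 11, 11, 8, 13, 15, 16, 18, 21, 18, 24, 36, 40, 44], [11, 11, 14, 13, 17, 12, 21, 19, 19, 24, 22, 22, 36, 40, 44], [8, 8, 8, 14, 12, 15, 18, 25, 23], [9, 9, 9, 17, 15, 17, 19, 20, 24, 32], [20, 22, 22, 32, 40, 44], [11, 11, 13, 13, 14, 19, 21, 18, 24, 36, 32, 40], [8, 10, 8, 8, 15, 17, 17, 14, 20, 19, 19, 24, 22, 22, 32, 44]] 4 34 = true := by decide +kernel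
theorem g_top {G : Type*} [Group G] {φ : G →* Equiv.Perm ℕ} {γ : ℕ → G}
    (C : Cert φ γ 11 m_ns m_ts [0, 2, 4, 6, 8, 10, 12, 14, 16, 18, 20] c_ls) : gw γ (g_Ws.take 4) = ⊤ := by
  have h0 : SlpTo γ (gw γ (g_Ws.take 4)) g_Ws 4 := fun i hi =>
    ev_mem_gw γ (by interval_cases i <;> decide +kernel)
  rw [eq_top_iff, ← C.gen]
  exact SlpTo.gp_le (SlpTo.step C.M C.base (by decide +kernel) h0 g_s0) (by decide +kernel)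

end Cfsg.Agent.J4C.V
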