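import Cfsg.Agent.J4C.V.OutU
import Cfsg.Agent.CGT.Out3

set_option autoImplicit false
set_option Elab.async false
set_option maxRecDepth 100000
set_option linter.all false

namespace Cfsg.Agent.J4C.V
open Cfsg.Agent.CGT

noncomputable def od : OutD := ⟨11, m_ts, (chainBase [] c_ls), [0, 16, 18, 0, 15, 0, 16, 7, 19, 17, 4], [19, 6, 18, 0, 6, 2, 9, 10, 5], [12, 10, 0, 8, 11, 18, 17, 11, 13, 5], [19, 6, 18, 0, 6, 2, 9, 10, 5], 23, 2, 1, 7, 10, [1, 5], [[11, 6, 11, 7, 0, 19, 4, 16, 8, 0]], [[0, 0, 4, 0, 0, 4, 0, 0, 4, 0, 0, 4, 0, 0, 4, 0, 0, 4], [0, 2, 4, 3, 0, 2, 4, 3, 0, 2, 4, 3, 0, 2, 4, 3, 0, 2, 4, 3, 0, 2, 4, 3]], [[[0, 16, 18, 0, 15, 0, 16, 7, 19, 17, 4], [19, 6, 18, 0, 6, 2, 9, 10, 5], [12, 10, 0, 8, 11, 18, 17, 11, 13, 5]], [[0, 16, 18, 0, 15, 0, 16, 7, 19, 17, 4], [19, 6, 18, 0, 6, 2, 9, 10, 5], [15, 9, 2, 0, 7,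 19, 7, 20, 14, 6, 2]]]⟩
theorem od_b : od.basic 501397585920 0 = true := by decide +kernel
theorem od_c : conjB 11 m_ts (chainBase [] c_ls) [4, 18, 9, 1, 7] od.u cu_S.u od.Cl cu_S.Cl = true := by decide +kernel
theorem od_k1_0 : od.cands 1 ((([] :: od.Cl).drop 0).take 2) [[0, 1, 1, 3, 1, 1, 1, 1, 1, 1, 1], [1, 1, 1, 1, 1, 1, 1, 2, 1, 1, 3]] = true := by decide +kernel
theorem od_k5_0 : od.cands 5 ((([] :: od.Cl).drop 0).take 2) [[3, 1, 1, 1, 1, 1, 1, 1, 1, 1, 1], [1, 1, 1, 1, 1, 1, 1, 3, 1, 1, 1]] = true := by decide +kernel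

end Cfsg.Agent.J4C.V
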