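import Cfsg.Agent.J4C.V.OutX
import Cfsg.Agent.J4C.V.OutK
import Cfsg.Agent.J4C.V.OutG
import Cfsg.Agent.J4C.Lib4

set_option autoImplicit false
set_option Elab.async false
set_option maxRecDepth 100000
set_option linter.all false

namespace Cfsg.Agent.J4C.V
open Cfsg.Agent.CGT

noncomputable def bW : List (List ℕ) := [[0], [13, 5, 0, 14, 0, 19, 21, 0, 8], [4, 12, 10, 0, 11, 13, 0], [6], [8], [10], [12], [14], [16], [18], [13, 19, 0, 18, 12, 20, 0]]
theorem od_s : od.second bW [13, 0, 13, 19, 0, 18, 13] [0, 16, 18, 0, 15, 0, 16, 7, 19, 17, 4] [15, 9, 2, 0, 7, 19, 7, 20, 14, 6, 2] = true := by decide +kernel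
theorem od_f : od.fourth [4, 8, 18, 0, 19, 0, 9, 5] [11, 6, 11, 7, 0, 19, 4, 16, 8, 0] 4 0 = true := by decide +kernel
theorem aut_two {G : Type*} [Group G] {φ : G →* Equiv.Perm ℕ} {γ : ℕ → G} (C : Cert φ γ 11 m_ns m_ts [0, 2, 4, 6, 8, 10, 12, 14, 16, 18, 20] c_ls)
    (hN : Nat.card G = 501397585920) (β : MulAut G) (hβ : ∀ j, β (γ j) = wg γ bW j) (α : MulAut G) :
    ∃ h : G, MulAut.conj h * α = 1 ∨ MulAut.conj h * α = β :=
  haveI := C.fin
  OutD.aut_two (D := od) C.M C.base hN (by norm_num [od]) od_b (cx_cent C) ((cu_cent C).conj C.M C.base od_c)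
    (by
    intro k hk
    simp only [od, List.mem_cons, List.not_mem_nil, or_false] at hk
    rcases hk with rfl | rfl
    exacts [forall_of_take (forall_take_step (c := 2) (forall_take_zero _) (OutD.cands_sound C.M C.base od_b od_k1_0) rfl) (by decide +kernel), forall_of_take (forall_take_step (c := 2) (forall_take_zero _) (OutD.cands_sound C.M C.base od_b od_k5_0) rfl) (by decide +kernel)]) (g_top C) rfl β hβ od_s ⟨rfl, rfl, rfl⟩ od_f α
theorem beta : ∃ β : MulAut K2, ∀ j, β (γ2 j) = wg γ2 bW j := by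
  obtain ⟨φ, C⟩ := cert
  have h : Holds (ext (wg γ2 bW)) RR := relsD_sound C.M C.base (by decide +kernel) (fun _ _ => trivial) (by decide +kernel)
  obtain ⟨f, hf⟩ := pg_lift (m := 11) (R := RK2) (p := wg γ2 bW) (fun j hj => wg_of_le _ hj) (fun r hr => h r (RR_eq.subst (motive := (r ∈ ·)) hr))
  exact exists_aut C.M C.base (by decide +kernel) C.gen f hf (by decide +kernel)
theorem aut_K2 {β : MulAut K2} (hβ : ∀ j, β (γ2 j) = wg γ2 bW j) (α : MulAut K2) :
    ∃ h : K2, MulAut.conj h * α = 1 ∨ MulAut.conj h * α = β := by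
  obtain ⟨φ, C⟩ := cert
  exact aut_two C card_eq β hβ α

end Cfsg.Agent.J4C.V
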