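import Cfsg.Agent.J4C.V.Cert
import Cfsg.Agent.CGT.Out

set_option autoImplicit false
set_option Elab.async false
set_option maxRecDepth 100000
set_option linter.all false

namespace Cfsg.Agent.J4C.V
open Cfsg.Agent.CGT

noncomputable def cu_l0 : Level := ⟨0, [[0], [2], [4], [6], [8], [10], [12], [14], [16], [18], [20]], [0, 1, 2, 3, 4, 5, 0, 6, 9, 3, 4, 7, 0, 8, 10], 0xffffffffffffffffffffffffffffffffffffffffffffffffffffffffffffffffffffffffffffffffffffffffffffffffffffffffffffffffffffffffffffffffffffffffffffffffffffffffffffffffffffffffffffffffffffffffffffffffffffffffffffffffffffffffffffffffffffffffffffffffffffffffffffffffffffffffffffffffffffffffffffffffffffffffffffffffffffffffffffffffffffffffffffffffffffffffffffffffffffffffffffffffffffffffffffffffffffffffffffffffffffffffffffffffffffffffffffffffffffffffffffffffffffffffffffffffffffffffffffffffffffffffffffffffffffffffffffffff, 2048⟩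
noncomputable def cu_l1 : Level := ⟨8, [[2], [4], [6], [8], [10], [12], [14], [16], [18], [20]], [0, 1, 2, 3, 8, 0, 6, 3, 8, 2, 0], 0x2100008048010001071801000100204800001400001082004100002200840000008188e10007118041000088002100004200008024010004d04240004000081400020010002084000180400810000200024080018008e080200108000400801012000088004100080000240e880800120b24020002008010420000180010117040020404d0404020018010024000080004240d42400004020000840b220200180010008042010000200402000400801100002400008800104800001200101172008b22004102000088e20080008400101002040008008014008000120010117004024000200008110080001800101170820000140010117000181170117177e, 276⟩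
noncomputable def cu_l2 : Level := ⟨421, [[2, 21, 8, 10, 21, 9], [10, 9, 10, 13, 6]], [1, 0, 1, 0, 1, 0, 1, 0, 1, 0, 1, 0, 1, 1], 0x10020800800400106100108010000402008040010100200810040200082000400800861000100861100408000280001020040800400200100049002400048100004001200200400818000004008120002400000800180086000280104000010820010800048000100080400200680180920020402000010820040100018016000004402000490204180000010024800042009400002440000020400800920120018008002004001000022040400001080010400208000180800401000120160008200092100400208600082008000140000140208000010808400100012016004000002400028100081001000180160020080100014016000100168016006800, 231⟩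
noncomputable def cu_l3 : Level := ⟨30, [[9, 18, 7, 15, 10, 6, 13], [17, 12, 19, 12, 16, 19, 10], [19, 2, 17, 13, 7, 14, 20]], [], 0x80800000000002020000404000000000000000000000000000000000000000000000000000000000000000000000000002020000000000000101000000002020000000000000000000000000040400000000000000004040000000000000000000000000000000000000000000000000000000000000000000000000000020200000000000000000000000000000000000000000000000000000080801010000000000008080000000000000000000000000000000000000000000002020929200002020000000000000000000002020000000000000000000000000000020200000000000000000000000000000000040400000, 40⟩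
noncomputable def cu_l4 : Level := ⟨750, [[21, 7, 12, 21, 19], [12, 9, 9, 17, 9, 15], [13, 17, 11, 12, 18, 14]], [], 0x400000002000000000000000000000000000000000080000000000100000000000000000000200000000004000000000010000000800000000000000000000800000000000000000000000000400000100000000000000000000020000000000000000000020100000000000000000000004000000000000800000000000008000000000000000000000000001000000000000000080100000000000000000040000000000000000000002000000000000040000000000002000000000000040000000800000000000000000000000800004000000000000000000000000008000040000000000000000000000040000000800000000000000000000000, 32⟩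
noncomputable def cu_l5 : Level := ⟨857, [[9, 11, 19, 17, 8, 11, 18]], [], 0x820020000000000000000000000000000000000000000000000000000000000000000000000000000000000000000000000000000000000000000000000000000000000000000000000000000000000000000000000000000000000000000000000000000000000000000000, 3⟩
noncomputable def cu_ls : List Level := [cu_l0, cu_l1, cu_l2, cu_l3, cu_l4, cu_l5]
noncomputable def cu_S : Srch := ⟨11, m_ts, (chainBase [] c_ls), [4, 16, 8, 6, 0, 2, 16, 13, 15, 19, 0], [4, 16, 8, 6, 0, 2, 16, 13, 15, 19, 0], [[4, 20, 5, 0, 2, 11, 9, 18, 6, 5]]⟩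
noncomputable def cu_lk : List ℕ := [1, 9, 422, 31, 751]
noncomputable def cu_tl : List Level := [cu_l1, cu_l2, cu_l3, cu_l4, cu_l5]
noncomputable def cu_R0 : ℕ := 0x802a02400900000009000800010800000000800000000000520000008001000200108201c000000060000200200000102200600040100000001100088010000020144000201000060200000010000002000100000021001000480020300840500000000200004006020020020440040000000010404000201110000010400800200001080022204040002400000000004080100081a4400800108000000002840046080300028160000100510000000180c1001200010202880200c4088010040000000000408024000014000000000400002000903420c000002062000004000000000001000054001003804504600000000000000000018200402020000001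
theorem cu_l0_ok : (ptsOK 11 [] && (wordsIn [0, 2, 4, 6, 8, 10, 12, 14, 16, 18, 20] cu_l0.S && cu_l0.ok 11 m_ns m_ts [])) = true := by decide +kernel
theorem cu_l1_ok : (ptsOK 11 [0] && (wordsIn [0, 2, 4, 6, 8, 10, 12, 14, 16, 18, 20] cu_l1.S && cu_l1.ok 11 m_ns m_ts [0])) = true := by decide +kernel
theorem cu_l2_ok : (ptsOK 11 [8, 0] && (wordsIn [0, 2, 4, 6, 8, 10, 12, 14, 16, 18, 20] cu_l2.S && cu_l2.ok 11 m_ns m_ts [8, 0])) = true := by decide +kernel
theorem cu_l3_ok : cu_l3.okT 11 m_ts [0, 2, 4, 6, 8, 10, 12, 14, 16, 18, 20] [421, 8, 0] (.cons [0] (.cons [0] .nil (.cons [2] .nil (.cons [3] .nil (.cons [5] (.cons [5] .nil .nil) .nil)))) (.cons [1] (.cons [5] .nil .nil) (.cons [2] (.cons [0] .nil (.cons [1] (.cons [3] .nil (.cons [5] .nil .nil)) (.cons [4] (.cons [3] .nil .nil) .nil))) (.cons [3] (.cons [0] (.cons [4] .nil (.cons [5] .nil .nil)) (.cons [1] (.cons [3] (.cons [4] .nil .nil) (.cons [4] .nil .nil)) .nil)) (.cons [4] (.cons [2] .nil (.cons [4] (.cons [4] (.cons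 [0] .nil .nil) .nil) .nil)) (.cons [5] (.cons [0] (.cons [4] .nil .nil) (.cons [1] (.cons [1] .nil (.cons [4] .nil .nil)) (.cons [2] (.cons [0] .nil .nil) (.cons [3] .nil (.cons [5] (.cons [2] .nil .nil) .nil))))) .nil)))))) = true := by decide +kernel
theorem cu_l4_ok : cu_l4.okT 11 m_ts [0, 2, 4, 6, 8, 10, 12, 14, 16, 18, 20] [30, 421, 8, 0] (.cons [0] (.cons [2] (.cons [2] .nil (.cons [5] .nil .nil)) (.cons [3] .nil (.cons [4] (.cons [2] .nil (.cons [3] .nil .nil)) (.cons [5] (.cons [2] .nil (.cons [3] .nil .nil)) .nil)))) (.cons [2] .nil (.cons [3] (.cons [3] .nil (.cons [4] (.cons [2] (.cons [2] .nil .nil) (.cons [3] .nil .nil)) .nil)) (.cons [4] (.cons [2] .nil (.cons [3] (.cons [3] .nil (.cons [4] .nil (.cons [5] (.cons [3] .nil .nil) .nil))) .nil)) (.cons [5] (.cons [2] (.cons [2] .nil (.cons [4] .nil (.cons [5] .nil .nil))) (.cons [3] .nil .nil)) .nil))))) = true := by decide +kernel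
theorem cu_l5_ok : cu_l5.okT 11 m_ts [0, 2, 4, 6, 8, 10, 12, 14, 16, 18, 20] [750, 30, 421, 8, 0] (.cons [0] .nil (.cons [1] .nil .nil)) = true := by decide +kernel
theorem cu_aux : cu_S.auxB [0, 2, 4, 6, 8, 10, 12, 14, 16, 18, 20] cu_ls [] (0 :: cu_lk) = true := by decide +kernel
theorem cu_cov : Nat.beq (Nat.land cu_l0.O (Srch.cover m_ns (invW cu_S.u') cu_R0 10)) cu_l0.O = true := by decide +kernel
theorem cu_r0 : cu_S.run (.cons [] (.cons [] (.cons [] (.cons [] (.cons [] (.cons [] (.leaf 2000) .nil) .nil) .nil) .nil) .nil) (.cons [0] .nil (.cons [2, 0] .nil (.cons [4, 0] .nil (.cons [5, 0] .nil (.cons [6, 0] .nil (.cons [7, 0] .nil (.cons [8, 0] .nil (.cons [9, 0] .nil (.cons [10, 0] .nil (.cons [11, 0] .nil (.cons [12, 0] .nil (.cons [13, 0] .nil (.cons [14, 0] .nil (.cons [15, 0] .nil (.cons [16, 0] .nil (.cons [17, 0] (.cons [2, 5, 10] (.cons [2, 1, 3, 0] (.cons [4, 4, 4] (.cons [2, 4, 0] .nil .nil) .nil) .nil) .nil) (.cons [18, 0] .nil (.cons [19, 0] .nil (.cons [0,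 4, 0] .nil (.cons [2, 4, 0] .nil (.cons [6, 4, 0] .nil (.cons [7, 4, 0] .nil (.cons [8, 4, 0] .nil (.cons [10, 4, 0] .nil (.cons [11, 4, 0] .nil (.cons [13, 4, 0] .nil (.cons [14, 4, 0] (.cons [0, 11, 0] .nil .nil) (.cons [17, 4, 0] .nil (.cons [18, 4, 0] .nil (.cons [19, 4, 0] .nil (.cons [21, 4, 0] .nil (.cons [0, 17, 0] .nil (.cons [2, 17, 0] .nil (.cons [4, 17, 0] (.cons [15, 18, 5] (.cons [3, 3, 1, 1, 3] .nil .nil) .nil) (.cons [5, 17, 0] (.cons [12, 0, 19] (.cons [2, 0, 0, 3] .nil .nil) .nil) (.cons [6, 17, 0] .nil (.cons [7, 17, 0] (.cons [8, 18] (.cons [0, 2, 2, 1, 3] .nil .nil) .nil) (.cons [8, 17, 0] .nil (.cons [10, 17, 0] .nil (.cons [13, 17, 0] .nil (.cons [14, 17, 0] .nil (.cons [15, 17, 0] .nil (.cons [18, 17, 0] .nil (.cons [19, 17, 0] .nil (.cons [20, 17, 0] .nil (.cons [21, 17, 0] .nil (.cons [4, 2, 0] .nil (.cons [6, 2, 0] .nil (.cons [7, 2, 0] .nil (.cons [8, 2, 0] .nil (.cons [14, 2, 0] (.cons [2, 7, 17] .nil .nil) (.cons [16, 2, 0] .nil (.cons [17, 2,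 0] .nil (.cons [19, 2, 0] .nil (.cons [21, 2, 0] .nil (.cons [0, 18, 0] .nil (.cons [2, 18, 0] .nil (.cons [6, 18, 0] .nil (.cons [7, 18, 0] .nil (.cons [9, 18, 0] .nil (.cons [12, 18, 0] .nil (.cons [15, 18, 0] .nil (.cons [21, 18, 0] .nil (.cons [0, 6, 0] .nil (.cons [8, 6, 0] .nil (.cons [9, 6, 0] .nil (.cons [10, 6, 0] .nil (.cons [11, 6, 0] .nil (.cons [12, 6, 0] .nil (.cons [13, 6, 0] .nil (.cons [15, 6, 0] .nil (.cons [18, 6, 0] .nil (.cons [19, 6, 0] (.cons [2, 0] (.cons [2, 0, 2, 2, 2] (.cons [2, 0] (.cons [3, 5, 0] (.cons [1] (.leaf 0) .nil) .nil) .nil) .nil) .nil) (.cons [0, 19, 0] .nil (.cons [2, 19, 0] (.cons [6, 3, 11] (.cons [3, 3, 3, 0, 3] .nil .nil) .nil) (.cons [8, 19, 0] .nil (.cons [12, 19, 0] .nil (.cons [16, 19, 0] .nil (.cons [20, 19, 0] (.cons [8, 0] (.cons [2, 1, 3, 3, 1, 2] .nil .nil) .nil) (.cons [21, 19, 0] .nil (.cons [5, 12, 0] .nil (.cons [7, 12, 0] .nil (.cons [8, 12, 0] .nil (.cons [9, 12, 0] .nil (.cons [10, 12, 0] .nil (.cons [11, 12, 0]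 .nil (.cons [15, 12, 0] .nil (.cons [17, 12, 0] .nil (.cons [0, 15, 0] .nil (.cons [5, 15, 0] (.cons [3, 0, 4] .nil .nil) (.cons [9, 15, 0] .nil (.cons [10, 15, 0] .nil (.cons [13, 15, 0] .nil (.cons [17, 15, 0] .nil (.cons [19, 15, 0] .nil (.cons [21, 15, 0] .nil (.cons [0, 9, 0] .nil (.cons [6, 9, 0] (.cons [9, 0] (.cons [3, 3, 1, 3, 3] .nil .nil) .nil) (.cons [9, 9, 0] .nil (.cons [11, 9, 0] .nil (.cons [15, 9, 0] .nil (.cons [17, 9, 0] .nil (.cons [18, 9, 0] .nil (.cons [21, 9, 0] .nil (.cons [7, 13, 0] .nil (.cons [8, 13, 0] .nil (.cons [9, 13, 0] .nil (.cons [15, 13, 0] (.cons [9, 13, 0] (.cons [3, 1, 3, 3] .nil .nil) .nil) (.cons [18, 13, 0] .nil (.cons [5, 10, 0] .nil (.cons [8, 10, 0] .nil (.cons [17, 10, 0] .nil (.cons [19, 10, 0] .nil (.cons [0, 14, 0] .nil (.cons [2, 14, 0] .nil (.cons [12, 14, 0] .nil (.cons [13, 14, 0] (.cons [19, 15, 18] .nil .nil) (.cons [16, 14, 0] .nil (.cons [20, 14, 0] .nil (.cons [21, 14, 0] .nil (.cons [0, 11, 0] .nil (.cons [9, 11,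 0] .nil (.cons [15, 11, 0] (.cons [6, 17, 3] (.cons [3, 1, 3, 3] .nil .nil) .nil) (.cons [17, 11, 0] .nil (.cons [8, 16, 0] .nil (.cons [19, 16, 0] .nil (.cons [7, 8, 0] .nil (.cons [13, 5, 0] .nil (.cons [17, 5, 0] (.cons [0, 12] (.cons [0, 3, 3, 3, 1] .nil .nil) .nil) (.cons [19, 5, 0] .nil (.cons [2, 18, 4, 0] (.cons [9, 13, 0] (.cons [0, 3] .nil .nil) .nil) (.cons [7, 18, 4, 0] .nil (.cons [8, 18, 4, 0] .nil (.cons [9, 18, 4, 0] .nil (.cons [0, 20, 17, 0] .nil (.cons [2, 20, 17, 0] .nil (.cons [5, 20, 17, 0] .nil (.cons [12, 20, 17, 0] .nil (.cons [13, 20, 17, 0] .nil (.cons [18, 20, 17, 0] .nil (.cons [20, 20, 17, 0] .nil (.cons [0, 7, 4, 0] .nil (.cons [9, 7, 4, 0] .nil (.cons [19, 7, 4, 0] .nil (.cons [20, 7, 4, 0] .nil (.cons [21, 7, 4, 0] (.cons [19, 5, 10] .nil .nil) (.cons [4, 21, 4, 0] .nil (.cons [13, 21, 4, 0] .nil (.cons [2, 9, 14, 0] (.cons [18, 11] (.cons [2, 1] .nil .nil) .nil) (.cons [14, 9, 14, 0] .nil (.cons [10, 15, 4, 0] .nil (.cons [11, 15, 4, 0] .nil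 (.cons [19, 15, 4, 0] .nil (.cons [9, 18, 15, 0] .nil (.cons [7, 13, 14, 0] .nil (.cons [17, 13, 14, 0] .nil (.cons [0, 8, 2, 0] .nil (.cons [0, 19, 17, 0] .nil (.cons [14, 19, 17, 0] .nil (.cons [17, 19, 17, 0] .nil (.cons [11, 0, 15, 0] .nil (.cons [12, 17, 9, 0] (.cons [14, 0, 9] .nil .nil) (.cons [18, 17, 9, 0] .nil (.cons [20, 17, 9, 0] .nil (.cons [10, 16, 9, 0] .nil (.cons [15, 16, 9, 0] .nil (.cons [15, 18, 12, 0] .nil (.cons [9, 14, 16, 0] .nil (.cons [10, 8, 16, 0] .nil (.cons [18, 8, 16, 0] (.cons [13, 0] .nil .nil) (.cons [5, 8, 19, 0] .nil (.cons [9, 16, 4, 0] .nil (.cons [5, 16, 15, 0] (.cons [12, 10] .nil .nil) (.cons [14, 16, 15, 0] .nil (.cons [0, 5, 14, 0] .nil (.cons [15, 17, 4, 0] .nil (.cons [2, 15, 18, 0] .nil (.cons [18, 5, 17, 0] .nil (.cons [11, 19, 12, 0] .nil (.cons [16, 11, 17, 0] (.cons [3, 7] (.cons [3, 3, 1, 1, 3] .nil .nil) .nil) (.cons [16, 2, 17, 0] .nil (.cons [20, 9, 15, 0] .nil (.cons [19, 6, 2, 0] .nil (.cons [5, 17, 10, 0] (.cons [15,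 18, 5] (.cons [2, 2, 0, 0, 3, 3] (.cons [0, 2, 5] (.cons [2, 4, 0] .nil .nil) .nil) .nil) .nil) (.cons [17, 8, 10, 0] .nil (.cons [18, 8, 10, 0] .nil (.cons [19, 0, 18, 12, 0] .nil .nil)))))))))))))))))))))))))))))))))))))))))))))))))))))))))))))))))))))))))))))))))))))))))))))))))))))))))))))))))))))))))))))))))))))))))))))))))))))))))))))))))))))))))))))))))))))))))))) (⟨cu_l0.b, cu_l0.S, [], cu_R0, 0⟩ :: cu_tl) (0 :: cu_lk) Pd.nil 0 = true := by decide +kernel
theorem cu_sound {G : Type*} [Group G] {φ : G →* Equiv.Perm ℕ} {γ : ℕ → G}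
    (M : Model φ γ 11 m_ns m_ts) : ChainSound φ (gp γ [0, 2, 4, 6, 8, 10, 12, 14, 16, 18, 20]) 11 [] cu_ls :=
  ⟨Level.ok_sound' M cu_l0_ok,
   Level.ok_sound' M cu_l1_ok,
   Level.ok_sound' M cu_l2_ok,
   Level.okT_sound M cu_l3_ok,
   Level.okT_sound M cu_l4_ok,
   Level.okT_sound M cu_l5_ok, trivial⟩
theorem cu_cent {G : Type*} [Group G] {φ : G →* Equiv.Perm ℕ} {γ : ℕ → G}
    (C : Cert φ γ 11 m_ns m_ts [0, 2, 4, 6, 8, 10, 12, 14, 16, 18, 20] c_ls) : Cent γ cu_S.u cu_S.Cl 10 :=
  have X := (C.rechain (cu_sound C.M) (by decide +kernel)).exact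
  have A := Srch.auxB_sound (S := cu_S) C.M (K := ⊤) le_top rfl cu_aux
  have F := fun {tr : Tr} {R : ℕ} => Srch.found_of_run (S := cu_S) C.M C.base (by decide +kernel) X A (tr := tr) (R := R)
  Cent.of_found (S := cu_S) C.M X rfl (F cu_r0) cu_cov

end Cfsg.Agent.J4C.V
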