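import Cfsg.Agent.CGT.DceMul

set_option autoImplicit false
set_option Elab.async false
set_option maxRecDepth 100000
set_option linter.all false

namespace Cfsg.Agent.J4C.V
open Cfsg.Agent.CGT

noncomputable def RR : List (List ℕ) := [[0, 0], [1, 13, 21, 17, 7, 0, 6, 16, 20, 12], [1, 7, 21, 6, 21, 0, 20, 7, 20, 6], [0, 10, 0, 12, 7, 13, 9, 4, 20, 7, 2, 0, 18, 10, 12, 17, 21, 16, 14, 5], [2, 2], [4, 4, 4], [2, 4, 2, 4, 2, 4, 2, 4, 2, 4, 2, 4, 2, 4, 2, 4, 2, 4, 2, 4, 2, 4, 2, 4, 2, 4, 2, 4, 2, 4, 2, 4, 2, 4, 2, 4, 2, 4, 2, 4, 2, 4, 2, 4, 2, 4], [3, 5, 2, 4, 3, 5, 2, 4, 3, 5, 2, 4, 3, 5, 2, 4, 3, 5, 2, 4, 3, 5, 2, 4, 3, 5, 2, 4, 3, 5, 2, 4, 3, 5, 2, 4, 3, 5, 2, 4, 3, 5, 2, 4, 3, 5, 2, 4], [3, 5, 3, 5, 2, 4, 2, 4, 3, 5, 3,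 5, 2, 4, 2, 4, 3, 5, 3, 5, 2, 4, 2, 4, 3, 5, 3, 5, 2, 4, 2, 4, 3, 5, 3, 5, 2, 4, 2, 4], [2, 4, 2, 4, 2, 5, 2, 4, 2, 5, 2, 4, 2, 5, 2, 4, 2, 4, 2, 5, 2, 4, 2, 5, 2, 4, 2, 5, 2, 4, 2, 4, 2, 5, 2, 4, 2, 5, 2, 4, 2, 5, 2, 4, 2, 4, 2, 5, 2, 4, 2, 5, 2, 4, 2, 5], [2, 4, 2, 4, 2, 5, 2, 4, 2, 4, 2, 5, 2, 4, 2, 4, 2, 5, 2, 4, 2, 5, 2, 5, 2, 4, 2, 5, 2, 5, 2, 4, 2, 5, 2, 5], [6, 3, 5, 3, 5, 3, 4, 3], [8, 3, 4, 3, 5, 3, 5, 3, 5, 3], [10, 4, 3, 4, 3, 5, 3, 5, 3, 5], [12, 4, 3, 5, 3, 5, 3, 4, 3, 5], [14, 5, 3, 4, 3, 5, 3, 5, 3, 4], [16, 5, 3, 5, 3, 4, 3, 5, 3, 5, 3, 4, 3, 4], [18, 5, 3, 5, 3, 5, 3, 5, 3, 4, 3, 4, 3, 4], [20, 5, 3, 5, 3, 5, 3, 4, 3, 4, 3, 5, 3, 5], [6, 6, 6], [14, 14, 14], [16, 16, 16], [10, 10, 10], [12, 12, 12],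 [18, 18, 18], [6, 14, 7, 17], [6, 9, 9, 13, 16], [6, 14, 9, 9, 13], [6, 16, 14, 19, 12], [10, 15, 19, 15, 19], [10, 13, 16, 12, 11, 13], [10, 18, 17, 19, 16, 19], [10, 15, 17, 19, 16, 14], [6, 8, 11, 13, 10, 9], [14, 18, 14, 18, 17, 19, 16], [6, 8, 13, 6, 9, 9, 9], [6, 9, 9, 11, 12, 10, 13], [6, 10, 12, 14, 16, 18, 8], [6, 9, 9, 9, 11, 15, 9], [6, 8, 8, 8, 15, 9, 9, 9], [6, 8, 8, 12, 10, 17, 19, 14], [6, 15, 18, 14, 6, 15, 18, 14], [10, 17, 18, 16, 10, 17, 18, 16], [10, 18, 16, 12, 10, 18, 16, 12], [10, 16, 11, 12, 10, 16, 11, 12], [6, 8, 8, 15, 18, 17, 19, 14, 11, 13], [10, 13, 10, 13, 10, 13, 10, 13, 10, 13], [16, 19, 16, 19, 16, 19, 16, 19, 16, 19], [6, 8, 8, 7, 15, 17, 19, 14, 18, 16], [6, 8, 8, 11, 13, 8, 8, 12,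 9, 9], [6, 8, 8, 8, 12, 11, 13, 9, 7, 15], [8, 8, 8, 8, 8, 8, 8, 8, 8, 8, 8, 8, 8, 8, 8, 8, 8, 8, 8, 8, 8, 8, 8], [10, 17, 10, 17, 10, 17, 10, 17]]

end Cfsg.Agent.J4C.V
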